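import Cfsg.Agent.Fusion.CharacterSub
import Cfsg.Agent.Fusion.GroupSystem
import Cfsg.Agent.Components.PxQ
import Cfsg.Agent.Components.Misc.EasyThree
import Cfsg.Agent.Coprime.Fitting

/-!
Normal subsystems of the system of a model: the subgroup `D = O_p(G) ∩ T` and the normal closure
of `T`.
-/

set_option autoImplicit false
set_option linter.unusedSectionVars false
set_option linter.style.haveILetI false

namespace Cfsg.Lib.Fusion.ModelSub

open Cfsg Cfsg.FusionSystem Cfsg.Lib.Fusion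
open scoped commutatorElement

universe u

variable {G : Type u} [Group G] {p : ℕ}

/-- Conjugation by `g` on `A` is an automorphism in the system `E`. -/
def ActE {T : Subgroup G} (E : FusionSystem T) (A : Subgroup G) (g : G) : Prop :=
  ∃ α ∈ E.autGroup A, ∀ x ∈ A, autFun α x = g * x * g⁻¹

variable {T : Subgroup G} {E : FusionSystem T} {A : Subgroup G}

theorem ActE.conj_mem {g : G} (h : ActE E A g) {x : G} (hx : x ∈ A) : g * x * g⁻¹ ∈ A := by
  obtain ⟨α, -, e⟩ := h
  rw [← e x hx]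
  exact autFun_mem α hx

theorem ActE.one : ActE E A 1 :=
  ⟨1, Subgroup.one_mem _, fun x hx => by rw [autFun_apply_mem _ hx]; simp⟩

theorem ActE.mul {g h : G} (hg : ActE E A g) (hh : ActE E A h) : ActE E A (g * h) := by
  obtain ⟨α, hα, e⟩ := hg
  obtain ⟨β, hβ, e'⟩ := hh
  refine ⟨α * β, Subgroup.mul_mem _ hα hβ, fun x hx => ?_⟩
  rw [autFun_mul _ _ hx, e _ (autFun_mem β hx), e' x hx]
  group

theorem ActE.inv {g : G} (hg : ActE E A g) : ActE E A g⁻¹ := by
  obtain ⟨α, hα, e⟩ := hg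
  refine ⟨α⁻¹, Subgroup.inv_mem _ hα, fun x hx => ?_⟩
  have h := e _ (autFun_mem α⁻¹ hx)
  rw [autFun_inv_apply α hx] at h
  conv_rhs => rw [h]
  group

theorem actE_of_mem (hA : A ≤ T) {t : G} (ht : t ∈ T) (hn : t ∈ Subgroup.normalizer (A : Set G)) :
    ActE E A t :=
  ⟨conjAut A t hn, autInducedBy_le hA (conjAut_mem_autInducedBy hn ht), fun x hx => by
    rw [autFun_apply_mem _ hx, conjAut_apply]⟩

variable [Finite G] [Fact p.Prime] (S : Sylow p G)

/-- The subgroup `O_p(G) ∩ T`. -/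
def dSub (p : ℕ) (T : Subgroup G) : Subgroup G := pCore p G ⊓ T

/-- The hypotheses: a model and a normal subsystem. -/
structure Setup (E : FusionSystem T) : Prop where
  self_centralizing : Subgroup.centralizer ((pCore p G : Subgroup G) : Set G) ≤ pCore p G
  normalIn : E.IsNormalIn (groupFusionSystem (S : Subgroup G)) p

variable {S} (hM : Setup S E)
include hM

theorem inv : E.IsInvariantIn (groupFusionSystem (S : Subgroup G)) := hM.normalIn.1.2.2

theorem saturated : E.IsSaturated p := hM.normalIn.1.1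

theorem closed : (groupFusionSystem (S : Subgroup G)).StronglyClosed T := (inv hM).2.1

theorem le_S : T ≤ (S : Subgroup G) := (closed hM).1

theorem pGroupT : IsPGroup p T := isPGroup_of_le_sylow S (le_S hM)

theorem core_le_S : pCore p G ≤ (S : Subgroup G) := Cfsg.Lib.Coprime.pCore_le_sylow p S

/-- A conjugate of an element of `T` inside the Sylow subgroup lies in `T`. -/
theorem conj_T {g x : G} (hx : x ∈ T) (h : g * x * g⁻¹ ∈ (S : Subgroup G)) : g * x * g⁻¹ ∈ T := by
  have hm : IsMap (groupFusionSystem (S : Subgroup G)) (Subgroup.zpowers x)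
      (fun y => g * y * g⁻¹) := by
    refine isMap_group_iff.mpr ⟨Subgroup.zpowers_le.mpr (le_S hM hx), ?_, g, fun _ _ => rfl⟩
    rintro _ ⟨n, rfl⟩
    show g * x ^ n * g⁻¹ ∈ (S : Subgroup G)
    rw [← conj_zpow]
    exact Subgroup.zpow_mem _ h n
  exact stronglyClosed_apply (closed hM) hm (Subgroup.mem_zpowers x) hx

theorem conj_T_of_mem_S {s x : G} (hs : s ∈ (S : Subgroup G)) (hx : x ∈ T) : s * x * s⁻¹ ∈ T :=
  conj_T hM hx (Subgroup.mul_mem _ (Subgroup.mul_mem _ hs (le_S hM hx)) (Subgroup.inv_mem _ hs))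

theorem S_le_normalizer : (S : Subgroup G) ≤ Subgroup.normalizer (T : Set G) :=
  normalizes_of_stronglyClosed (closed hM)

theorem conj_Q (g : G) {x : G} (hx : x ∈ pCore p G) : g * x * g⁻¹ ∈ pCore p G :=
  (Cfsg.Lib.Components.pCore_normal' p).conj_mem x hx g

theorem conj_D (g : G) {x : G} (hx : x ∈ dSub p T) : g * x * g⁻¹ ∈ dSub p T :=
  ⟨conj_Q hM g hx.1, conj_T hM hx.2 (core_le_S hM (conj_Q hM g hx.1))⟩

theorem normal_D : (dSub p T).Normal := ⟨fun _ hx g => conj_D hM g hx⟩

/-- The elements acting trivially on `O_p(G)` modulo `D`. -/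
def uSub : Subgroup G where
  carrier := {g | ∀ q ∈ pCore p G, g * q * g⁻¹ * q⁻¹ ∈ dSub p T}
  one_mem' q _ := by simp
  mul_mem' := by
    intro a b ha hb q hq
    have := (dSub p T).mul_mem (ha _ (conj_Q hM b hq)) (hb q hq)
    convert this using 1
    group
  inv_mem' := by
    intro a ha q hq
    have := (dSub p T).inv_mem (ha _ (conj_Q hM a⁻¹ hq))
    convert this using 1
    group

theorem uSub_normal : (uSub hM).Normal :=
  ⟨fun n hn g q hq => by
    have := conj_D hM g (hn _ (conj_Q hM g⁻¹ hq))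
    convert this using 1
    group⟩

theorem T_le_uSub : T ≤ uSub hM := fun t ht q hq => by
  have hqS := core_le_S hM hq
  refine ⟨(pCore p G).mul_mem (conj_Q hM t hq) ((pCore p G).inv_mem hq), ?_⟩
  rw [show t * q * t⁻¹ * q⁻¹ = t * (q * t⁻¹ * q⁻¹) by group]
  exact T.mul_mem ht (conj_T_of_mem_S hM hqS (T.inv_mem ht))

/-- An element acting trivially on `D` and on `O_p(G)` modulo `D` lies in `O_p(G)`. -/
theorem mem_core_of_trivial {g : G} (hg : g ∈ Subgroup.centralizer (dSub p T : Set G))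
    (hgU : g ∈ uSub hM) : g ∈ pCore p G := by
  haveI := uSub_normal hM
  haveI := normal_D hM
  set K := Subgroup.centralizer (dSub p T : Set G) ⊓ uSub hM
  have hK : IsPGroup p K := Cfsg.Lib.Easy.isPGroup_of_coprime_trivial K fun x hx hcop => by
    have hQp := Cfsg.Lib.Components.isPGroup_pCore (G := G) p
    have hxn : x ∈ Subgroup.normalizer ((pCore p G : Subgroup G) : Set G) :=
      mem_normalizer_of_maps_finite fun y hy => conj_Q hM x hy
    have hxc : x ∈ Subgroup.centralizer ((pCore p G : Subgroup G) : Set G) := fun q hq => by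
      refine (Cfsg.Lib.Components.centralize_of_commutator_fixed hQp hcop hxn hq ?_).symm
      have h1 : x * q * x⁻¹ * q⁻¹ ∈ dSub p T := hx.2 q hq
      rw [commutatorElement_def, ← Subgroup.mem_centralizer_iff.mp hx.1 _ h1, mul_inv_cancel_right]
    obtain ⟨k, hk⟩ := hQp ⟨x, hM.self_centralizing hxc⟩
    have hk' : x ^ p ^ k = 1 := by simpa using congrArg Subtype.val hk
    exact orderOf_eq_one_iff.mp (Nat.eq_one_of_dvd_coprimes (Nat.Coprime.pow_left k
      (Nat.coprime_comm.mp hcop)) (orderOf_dvd_of_pow_eq_one hk')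
      (dvd_refl _))
  exact Cfsg.Lib.Components.le_pCore hK ⟨hg, hgU⟩

/-- `Z = D ∩ C(D)`. -/
theorem commutator_mem {c t : G} (hc : c ∈ Subgroup.centralizer (dSub p T : Set G)) (ht : t ∈ T) :
    c * t * c⁻¹ * t⁻¹ ∈ dSub p T ⊓ Subgroup.centralizer (dSub p T : Set G) := by
  haveI := normal_D hM
  have hy : c * t * c⁻¹ * t⁻¹ ∈ Subgroup.centralizer (dSub p T : Set G) := by
    rw [show c * t * c⁻¹ * t⁻¹ = c * (t * c⁻¹ * t⁻¹) by group]
    exact Subgroup.mul_mem _ hc
      ((inferInstance : (Subgroup.centralizer (dSub p T : Set G)).Normal).conj_mem _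
        (Subgroup.inv_mem _ hc) t)
  have hyU : c * t * c⁻¹ * t⁻¹ ∈ uSub hM :=
    Subgroup.mul_mem _ ((uSub_normal hM).conj_mem _ (T_le_uSub hM ht) c)
      (Subgroup.inv_mem _ (T_le_uSub hM ht))
  have hyQ := mem_core_of_trivial hM hy hyU
  have h1 : c * t * c⁻¹ ∈ (S : Subgroup G) := by
    have := (S : Subgroup G).mul_mem (core_le_S hM hyQ) (le_S hM ht)
    rwa [show c * t * c⁻¹ * t⁻¹ * t = c * t * c⁻¹ by group] at this
  exact ⟨⟨hyQ, T.mul_mem (conj_T hM ht h1) (T.inv_mem ht)⟩, hy⟩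

/-- The centralizer of `D` normalizes `T`. -/
theorem centralizer_D_conj {c t : G} (hc : c ∈ Subgroup.centralizer (dSub p T : Set G))
    (ht : t ∈ T) : c * t * c⁻¹ ∈ T := by
  have := T.mul_mem (commutator_mem hM hc ht).1.2 ht
  rwa [show c * t * c⁻¹ * t⁻¹ * t = c * t * c⁻¹ by group] at this

/-- The elements centralizing `C(D)` modulo `Z`. -/
def vSub : Subgroup G where
  carrier := {g | ∀ c ∈ Subgroup.centralizer (dSub p T : Set G),
    g * c * g⁻¹ * c⁻¹ ∈ dSub p T ⊓ Subgroup.centralizer (dSub p T : Set G)}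
  one_mem' c _ := by simp
  mul_mem' := by
    intro a b ha hb c hc
    haveI := normal_D hM
    have hbc := (inferInstance : (Subgroup.centralizer (dSub p T : Set G)).Normal).conj_mem c hc b
    have := Subgroup.mul_mem _ (ha _ hbc) (hb c hc)
    convert this using 1
    group
  inv_mem' := by
    intro a ha c hc
    haveI := normal_D hM
    have hac := (inferInstance : (Subgroup.centralizer (dSub p T : Set G)).Normal).conj_mem c hc a⁻¹
    have := Subgroup.inv_mem _ (ha _ hac)
    convert this using 1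
    group

theorem vSub_normal : (vSub hM).Normal :=
  ⟨fun n hn g c hc => by
    haveI := normal_D hM
    have hgc := (inferInstance : (Subgroup.centralizer (dSub p T : Set G)).Normal).conj_mem c hc g⁻¹
    have := (inferInstance :
      (dSub p T ⊓ Subgroup.centralizer (dSub p T : Set G)).Normal).conj_mem _ (hn _ hgc) g
    convert this using 1
    group⟩

theorem T_le_vSub : T ≤ vSub hM := fun t ht c hc => by
  have := Subgroup.inv_mem _ (commutator_mem hM hc ht)
  convert this using 1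
  group

/-- The elements acting on `D` as `E` does. -/
def lSub (_h : Setup S E) : Subgroup G where
  carrier := {g | ActE E (dSub p T) g}
  one_mem' := ActE.one
  mul_mem' := ActE.mul
  inv_mem' := ActE.inv

theorem lSub_normal : (lSub hM).Normal := by
  refine ⟨fun n hn g => ?_⟩
  set D := dSub p T
  have hDS : D ≤ (S : Subgroup G) := inf_le_right.trans (le_S hM)
  haveI := finite_of_le hDS
  have hgm : IsMap (groupFusionSystem (S : Subgroup G)) D (fun x => g * x * g⁻¹) :=
    isMap_group_iff.mpr ⟨hDS, fun x hx => hDS (conj_D hM g hx), g, fun _ _ => rfl⟩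
  obtain ⟨α, hα, f₀, hf₀, he⟩ := CharSub.frattiniT (inv hM) (inf_le_right : D ≤ T) hgm
  obtain ⟨β, hβ, eβ⟩ := hn
  obtain ⟨k, hk, -, hkl, -⟩ := hf₀.exists_inv
  have hαm : IsMap (groupFusionSystem (S : Subgroup G)) T (autFun α) :=
    (isMap_autFun (le_S hM)).mpr hα
  have hf₀D : ∀ x ∈ D, f₀ x ∈ D := fun x hx => by
    obtain ⟨-, -, a, ea⟩ := isMap_group_iff.mp hαm
    have h1 : a * f₀ x * a⁻¹ ∈ D := by
      rw [← ea _ (hf₀.mem_S hx), ← he x hx]
      exact conj_D hM g hx
    have := conj_D hM a⁻¹ h1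
    simpa [mul_assoc] using this
  have himg : img D f₀ = D :=
    Subgroup.eq_of_le_of_card_ge (IsMap.img_le_iff.mpr hf₀D) hf₀.card_img.ge
  rw [show img (pCore p G ⊓ T) f₀ = D from himg] at hk
  have hkD : ∀ x ∈ D, k x ∈ D := fun x hx => by
    obtain ⟨y, hy, rfl⟩ := hf₀.mem_img.mp (himg.symm ▸ hx : x ∈ img D f₀)
    rwa [hkl y hy]
  have h1 : IsMap E D (f₀ ∘ (autFun β ∘ k)) :=
    (hk.comp ((isMap_autFun inf_le_right).mpr hβ) hkD).comp hf₀ fun x hx =>
      autFun_mem β (hkD x hx)
  have h2 := CharSub.transT (inv hM) h1 hα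
  have hDa : D ≤ img D (autFun α) := fun x hx => by
    obtain ⟨y, hy, e⟩ := hgm.mem_img.mp (show x ∈ img D (fun z => g * z * g⁻¹) by
      refine (Subgroup.eq_of_le_of_card_ge (IsMap.img_le_iff.mpr fun z hz => conj_D hM g hz)
        hgm.card_img.ge).ge hx)
    rw [← e, he y hy]
    exact IsMap.apply_mem_img (hf₀D y hy)
  have h3 : IsMap E D (fun x => g * n * g⁻¹ * x * (g * n * g⁻¹)⁻¹) := by
    refine (h2.mono hDa).congr fun x hx => ?_
    have hy : g⁻¹ * x * g ∈ D := by simpa using conj_D hM g⁻¹ hx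
    have hx' : x = g * (g⁻¹ * x * g) * g⁻¹ := by group
    have e1 : autFun α⁻¹ x = f₀ (g⁻¹ * x * g) := by
      conv_lhs => rw [hx', he _ hy]
      exact autFun_inv_apply' α (hf₀.mem_S hy)
    show _ = autFun α (f₀ (autFun β (k (autFun α⁻¹ x))))
    rw [e1, hkl _ hy, ← he _ (autFun_mem β hy), eβ _ hy]
    group
  obtain ⟨γ, hγ, eγ⟩ := h3.exists_aut (Subgroup.eq_of_le_of_card_ge
    (IsMap.img_le_iff.mpr fun z hz => conj_D hM _ hz) h3.card_img.ge)
  exact ⟨γ, hγ, eγ⟩

theorem T_le_lSub : T ≤ lSub hM := fun t ht =>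
  actE_of_mem inf_le_right ht (mem_normalizer_of_maps_finite fun _ hx => conj_D hM t hx)

theorem closedE_D : E.StronglyClosed (dSub p T) :=
  stronglyClosed_of_apply inf_le_right fun P f hf x hx hxD => by
    obtain ⟨-, -, g, e⟩ := isMap_group_iff.mp (CharSub.isMap_of_sub (inv hM).1 hf)
    rw [e x hx]
    exact conj_D hM g hxD

theorem fullyNormalized_D : E.IsFullyNormalized (dSub p T) :=
  ⟨inf_le_right, fun Q hQ => by
    obtain ⟨f, hf, rfl⟩ := isConj_iff.mp hQ
    rw [img_eq_of_apply hf le_rfl fun x hx => stronglyClosed_apply (closedE_D hM) hf hx hx]⟩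

/-- The normal closure of `T`. -/
def h1Sub (_h : Setup S E) : Subgroup G := Subgroup.normalClosure (T : Set G)

theorem T_le_h1 : T ≤ h1Sub hM := Subgroup.le_normalClosure

theorem h1_le_uSub : h1Sub hM ≤ uSub hM :=
  haveI := uSub_normal hM
  Subgroup.normalClosure_le_normal (T_le_uSub hM)

theorem h1_le_vSub : h1Sub hM ≤ vSub hM :=
  haveI := vSub_normal hM
  Subgroup.normalClosure_le_normal (T_le_vSub hM)

theorem h1_le_lSub : h1Sub hM ≤ lSub hM :=
  haveI := lSub_normal hM
  Subgroup.normalClosure_le_normal (T_le_lSub hM)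

/-- An element of the Sylow subgroup in the normal closure is an element of `T` times one of
`C(D)`. -/
theorem exists_decomp {x : G} (hxS : x ∈ (S : Subgroup G)) (hxH : x ∈ h1Sub hM) :
    ∃ t ∈ T, t⁻¹ * x ∈ Subgroup.centralizer (dSub p T : Set G) := by
  set D := dSub p T
  have hDT : D ≤ T := inf_le_right
  set P := (S : Subgroup G) ⊓ h1Sub hM
  have hB : autInducedBy P D ≤ E.autGroup D := fun β hβ => by
    obtain ⟨g, hg, e⟩ := mem_autInducedBy.mp hβ
    obtain ⟨α, hα, eα⟩ := h1_le_lSub hM hg.2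
    rwa [show β = α from MulEquiv.ext fun y => Subtype.ext (by
      rw [e y, ← autFun_apply α y, eα y y.2])]
  have hTP : T ≤ P := le_inf (le_S hM) (T_le_h1 hM)
  obtain ⟨V, hV⟩ := (fullyNormalized_props (pGroupT hM) (saturated hM) (fullyNormalized_D hM)).2.1.2
  have hBp : IsPGroup p ((autInducedBy P D).subgroupOf (E.autGroup D)) :=
    ((isPGroup_autInducedBy (S.isPGroup') D).of_injective _
      (Subgroup.inclusion_injective (autInducedBy_mono (inf_le_left : P ≤ _)))).comap_of_injective _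
      (Subgroup.subtype_injective _)
  have heq := V.is_maximal' hBp (hV.trans_le fun b hb => autInducedBy_mono hTP hb)
  have hxn : x ∈ Subgroup.normalizer (D : Set G) :=
    mem_normalizer_of_maps_finite fun y hy => conj_D hM x hy
  have hxB := conjAut_mem_autInducedBy (K := P) hxn ⟨hxS, hxH⟩
  have hx' : (⟨conjAut D x hxn, hB hxB⟩ : E.autGroup D) ∈ (V : Subgroup (E.autGroup D)) :=
    heq.le hxB
  rw [hV] at hx'
  obtain ⟨t, ht, et⟩ := mem_autInducedBy.mp (show conjAut D x hxn ∈ autInducedBy T D from hx')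
  refine ⟨t, ht, fun y hy => ?_⟩
  have h1 := et ⟨y, hy⟩
  rw [conjAut_apply] at h1
  show y * (t⁻¹ * x) = t⁻¹ * x * y
  calc y * (t⁻¹ * x) = t⁻¹ * (t * y * t⁻¹) * x := by group
    _ = t⁻¹ * (x * y * x⁻¹) * x := by rw [← h1]
    _ = t⁻¹ * x * y := by group

/-- `T` is a maximal `p`-subgroup of its normal closure. -/
theorem h1_inf_S : (S : Subgroup G) ⊓ h1Sub hM = T := by
  haveI : (h1Sub hM).Normal := Subgroup.normalClosure_normal
  set H1 := h1Sub hM
  set P := (S : Subgroup G) ⊓ H1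
  have hTP : T ≤ P := le_inf (le_S hM) (T_le_h1 hM)
  have hmax : IsMaxPIn p P H1 := by
    refine ⟨inf_le_right, isPGroup_of_le_sylow S inf_le_left, fun U hU hUp hle => ?_⟩
    obtain ⟨g, hg⟩ := exists_conj_le_sylow S hUp
    have h1 := Subgroup.card_le_of_le
      (map_conj_le (g := g) (B := P) fun u hu => Subgroup.mem_inf.mpr
        ⟨hg u hu, (inferInstance : H1.Normal).conj_mem u (hU hu) g⟩)
    rw [card_map_conj] at h1
    exact (Subgroup.eq_of_le_of_card_ge hle h1).symm
  obtain ⟨R, hR⟩ := (sylow_subgroupOf_iff hmax.1 hmax.2.1).mpr hmax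
  have hfocal : (R : Subgroup H1).focalSubgroup ≤ T.subgroupOf H1 := by
    refine (Subgroup.closure_le _).mpr ?_
    rintro g ⟨hgR, x, hxR, u, rfl⟩
    show ((⁅x, u⁆ : H1) : G) ∈ T
    rw [commutatorElement_def]
    push_cast
    set a : G := (x : G)
    set b : G := (u : G)
    have ha : a ∈ P := by rw [hR] at hxR; exact hxR
    have hg' : a * b * a⁻¹ * b⁻¹ ∈ P := by
      rw [hR] at hgR
      simpa [Subgroup.mem_subgroupOf, commutatorElement_def] using hgR
    have hconj : b * a * b⁻¹ ∈ P := by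
      have := P.inv_mem (P.mul_mem (P.inv_mem ha) hg')
      simpa [mul_assoc] using this
    obtain ⟨t, ht, hk⟩ := exists_decomp hM ha.1 ha.2
    set k := t⁻¹ * a
    have hkP : k ∈ P := P.mul_mem (P.inv_mem (hTP ht)) ha
    have hz := (h1_le_vSub hM u.2 k hk).1.2
    change b * k * b⁻¹ * k⁻¹ ∈ T at hz
    have hbk : b * k * b⁻¹ ∈ P := by
      have := P.mul_mem (hTP hz) hkP
      simpa [mul_assoc] using this
    have hbt : b * t * b⁻¹ ∈ P := by
      have := P.mul_mem hconj (P.inv_mem hbk)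
      simpa [k, mul_assoc] using this
    have hbtT := conj_T hM ht hbt.1
    have := T.mul_mem (T.mul_mem ht (T.inv_mem hz)) (T.inv_mem hbtT)
    simpa [k, mul_assoc] using this
  set W := (T.subgroupOf H1) ⊔ _root_.commutator H1
  have hW : H1 ≤ W.map H1.subtype := by
    refine (Subgroup.closure_le _).mpr fun y hy => ?_
    obtain ⟨t, ht, hty⟩ := Group.mem_conjugatesOfSet_iff.mp hy
    obtain ⟨g, rfl⟩ := _root_.isConj_iff.mp hty
    have hyH : g * t * g⁻¹ ∈ H1 := (inferInstance : H1.Normal).conj_mem t (T_le_h1 hM ht) g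
    have hyp : IsPGroup p (Subgroup.zpowers (g * t * g⁻¹)) := by
      refine ((pGroupT hM).map (MulAut.conj g).toMonoidHom).to_le (Subgroup.zpowers_le.mpr ?_)
      exact ⟨t, ht, rfl⟩
    obtain ⟨h, hh, hhU⟩ := hmax.exists_conj_le (Subgroup.zpowers_le.mpr hyH) hyp
    have h2 := hhU _ (Subgroup.mem_zpowers _)
    have ht' : h * g * t * (h * g)⁻¹ ∈ T := conj_T hM ht (by
      rw [show h * g * t * (h * g)⁻¹ = h * (g * t * g⁻¹) * h⁻¹ by group]
      exact h2.1)
    set a : H1 := ⟨h, hh⟩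
    set c : H1 := ⟨h * g * t * (h * g)⁻¹, T_le_h1 hM ht'⟩
    refine ⟨c * ⁅c⁻¹, a⁻¹⁆, W.mul_mem (Subgroup.mem_sup_left ht') (Subgroup.mem_sup_right
      (Subgroup.commutator_mem_commutator (Subgroup.mem_top _) (Subgroup.mem_top _))), ?_⟩
    simp only [commutatorElement_def, Subgroup.coe_subtype, Subgroup.coe_mul, Subgroup.coe_inv,
      a, c]
    group
  refine le_antisymm (fun x hx => ?_) hTP
  obtain ⟨w, hw, e⟩ := hW hx.2
  haveI : (_root_.commutator H1).Normal := inferInstance
  obtain ⟨t, ht, c, hc, rfl⟩ := Subgroup.mem_sup_of_normal_right.mp hw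
  have e' : (t : G) * (c : G) = x := e
  have hcR : c ∈ (R : Subgroup H1) := by
    rw [hR]
    show (c : G) ∈ P
    have := P.mul_mem (P.inv_mem (hTP ht)) hx
    simpa [← e'] using this
  have hcT : (c : G) ∈ T := hfocal ((Subgroup.commutator_inf_eq_focalSubgroup R).le ⟨hc, hcR⟩)
  rw [← e']
  exact T.mul_mem ht hcT

end Cfsg.Lib.Fusion.ModelSub
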