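import Cfsg.Agent.Fusion.ModelSubgroup.Basic
import Cfsg.Agent.Transfer.Basic
import Cfsg.Agent.Fusion.NormalSubgroupSystem

/-!
The normal subgroup of a model carrying a normal subsystem.
-/

set_option autoImplicit false
set_option linter.unusedSectionVars false
set_option linter.style.haveILetI false

namespace Cfsg.Lib.Fusion.ModelSub

open Cfsg Cfsg.FusionSystem Cfsg.Lib.Fusion
open scoped commutatorElement

universe u

variable {G : Type u} [Group G] {p : ℕ} {T : Subgroup G} {E : FusionSystem T}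
  [Finite G] [Fact p.Prime] {S : Sylow p G}

theorem conj_cq {b x : G} (hb : b ∈ Subgroup.normalizer (T : Set G))
    (hx : x ∈ pCore p G ⊓ Subgroup.centralizer (T : Set G)) :
    b * x * b⁻¹ ∈ pCore p G ⊓ Subgroup.centralizer (T : Set G) := by
  refine ⟨(Cfsg.Lib.Components.pCore_normal' p).conj_mem x hx.1 b, fun t ht => ?_⟩
  have h1 : b⁻¹ * t * b ∈ T := by
    simpa using conj_mem_of_mem_normalizer (Subgroup.inv_mem _ hb) ht
  have h2 : (b⁻¹ * t * b) * x = x * (b⁻¹ * t * b) := hx.2 _ h1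
  calc t * (b * x * b⁻¹) = b * ((b⁻¹ * t * b) * x) * b⁻¹ := by group
    _ = b * (x * (b⁻¹ * t * b)) * b⁻¹ := by rw [h2]
    _ = b * x * b⁻¹ * t := by group

/-- The elements normalizing `T` and centralizing `C_{O_p(G)}(T)` modulo `T`. -/
def ncSub (p : ℕ) [Fact p.Prime] (T : Subgroup G) : Subgroup G where
  carrier := {g | g ∈ Subgroup.normalizer (T : Set G) ∧
    ∀ x ∈ pCore p G ⊓ Subgroup.centralizer (T : Set G), g * x * g⁻¹ * x⁻¹ ∈ T}
  one_mem' := ⟨Subgroup.one_mem _, fun x _ => by simp⟩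
  mul_mem' := by
    rintro a b ⟨ha, ha'⟩ ⟨hb, hb'⟩
    refine ⟨Subgroup.mul_mem _ ha hb, fun x hx => ?_⟩
    have hbx : b * x * b⁻¹ ∈ pCore p G ⊓ Subgroup.centralizer (T : Set G) :=
      conj_cq hb hx
    have := T.mul_mem (ha' _ hbx) (hb' x hx)
    convert this using 1
    group
  inv_mem' := by
    rintro a ⟨ha, ha'⟩
    refine ⟨Subgroup.inv_mem _ ha, fun x hx => ?_⟩
    have hbx := conj_cq (Subgroup.inv_mem _ ha) hx
    have := T.inv_mem (ha' _ hbx)
    convert this using 1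
    group

/-- The elements of `ncSub` acting on `T` as `E` does. -/
def mSub (p : ℕ) [Fact p.Prime] (E : FusionSystem T) : Subgroup G where
  carrier := {g | g ∈ ncSub p T ∧ ActE E T g}
  one_mem' := ⟨Subgroup.one_mem _, ActE.one⟩
  mul_mem' h h' := ⟨Subgroup.mul_mem _ h.1 h'.1, h.2.mul h'.2⟩
  inv_mem' h := ⟨Subgroup.inv_mem _ h.1, h.2.inv⟩

/-- The subgroup generated by `T` and the `p'`-elements of `mSub`. -/
def ySub (p : ℕ) [Fact p.Prime] (E : FusionSystem T) : Subgroup G :=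
  Subgroup.closure {g | g ∈ mSub p E ∧ (orderOf g).Coprime p} ⊔ T

theorem eq_one_of_pow {x : G} {k : ℕ} (hx : (orderOf x).Coprime p) (h : x ^ p ^ k = 1) : x = 1 :=
  orderOf_eq_one_iff.mp (Nat.eq_one_of_dvd_coprimes (Nat.Coprime.pow_left k
    (Nat.coprime_comm.mp hx)) (orderOf_dvd_of_pow_eq_one h) (dvd_refl _))

variable (hM : Setup S E)
include hM

/-- A `p'`-element of `ncSub` centralizing `T` is trivial. -/
theorem eq_one_of_centralizes {x : G} (hx : x ∈ ncSub p T)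
    (hxT : x ∈ Subgroup.centralizer (T : Set G)) (hcop : (orderOf x).Coprime p) : x = 1 := by
  have hQp := Cfsg.Lib.Components.isPGroup_pCore (G := G) p
  have hTn : T ≤ Subgroup.normalizer ((pCore p G : Subgroup G) : Set G) := fun t _ =>
    mem_normalizer_of_maps_finite fun y hy => conj_Q hM t hy
  have hxn : x ∈ Subgroup.normalizer ((pCore p G : Subgroup G) : Set G) :=
    mem_normalizer_of_maps_finite fun y hy => conj_Q hM x hy
  have hle := Cfsg.Lib.Components.pxq_element hcop (pGroupT hM) hxT (pCore p G) hQp hTn hxn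
    fun w hw => by
      rw [Subgroup.mem_centralizer_singleton_iff]
      refine (Cfsg.Lib.Components.centralize_of_commutator_fixed
        (hQp.to_le inf_le_left) hcop (mem_normalizer_of_maps_finite fun y hy =>
          conj_cq hx.1 hy) hw ?_).symm
      rw [commutatorElement_def, ← Subgroup.mem_centralizer_iff.mp hxT _ (hx.2 w hw),
        mul_inv_cancel_right]
  have hxc : x ∈ Subgroup.centralizer ((pCore p G : Subgroup G) : Set G) := fun q hq =>
    Subgroup.mem_centralizer_singleton_iff.mp (hle hq)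
  obtain ⟨k, hk⟩ := hQp ⟨x, hM.self_centralizing hxc⟩
  exact eq_one_of_pow hcop (by simpa using congrArg Subtype.val hk)

/-- The normal closure centralizes `C_{O_p(G)}(T)` modulo `T` where it normalizes `T`. -/
theorem h1_mem_ncSub {g : G} (hg : g ∈ h1Sub hM) (hgn : g ∈ Subgroup.normalizer (T : Set G)) :
    g ∈ ncSub p T := ⟨hgn, fun x hx => (h1_le_uSub hM hg x hx.1).2⟩

theorem T_le_nc : T ≤ ncSub p T := fun t ht =>
  h1_mem_ncSub hM (T_le_h1 hM ht) (Subgroup.le_normalizer ht)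

theorem T_le_m : T ≤ mSub p E := fun t ht =>
  ⟨T_le_nc hM ht, actE_of_mem le_rfl ht (Subgroup.le_normalizer ht)⟩

theorem y_le_m : ySub p E ≤ mSub p E :=
  sup_le ((Subgroup.closure_le _).mpr fun _ h => h.1) (T_le_m hM)

theorem nc_le_normalizer : ncSub p T ≤ Subgroup.normalizer (T : Set G) := fun _ h => h.1

/-- A `p`-element acting on `T` as `E` does acts as an element of `T`. -/
theorem exists_inner_action {g : G} (hg : ActE E T g) (hp : ∃ k : ℕ, g ^ p ^ k = 1) :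
    ∃ t ∈ T, t⁻¹ * g ∈ Subgroup.centralizer (T : Set G) := by
  obtain ⟨α, hα, e⟩ := hg
  obtain ⟨k, hk⟩ := hp
  have hTp := pGroupT hM
  have hn : E.IsFullyNormalized T := ⟨le_rfl, fun Q hQ => by
    obtain ⟨f, hf, rfl⟩ := isConj_iff.mp hQ
    rw [Subgroup.eq_of_le_of_card_ge hf.img_le hf.card_img.ge]⟩
  have hpow : ∀ n : ℕ, ∀ x ∈ T, autFun (α ^ n) x = g ^ n * x * (g ^ n)⁻¹ := by
    intro n
    induction n with
    | zero => exact fun x hx => by rw [pow_zero, autFun_one hx]; simp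
    | succ n ih =>
      intro x hx
      rw [pow_succ, autFun_mul _ _ hx, ih _ (autFun_mem α hx), e x hx, pow_succ]
      group
  have hα1 : α ^ p ^ k = 1 := eq_one_of_autFun fun x hx => by rw [hpow _ x hx, hk]; simp
  have hKp : IsPGroup p (Subgroup.zpowers α) := fun y => by
    obtain ⟨i, hi⟩ := y.2
    refine ⟨k, Subtype.ext ?_⟩
    rw [Subgroup.coe_pow, ← hi]
    show (α ^ i) ^ p ^ k = 1
    rw [← zpow_natCast, ← zpow_mul, mul_comm, zpow_mul, zpow_natCast, hα1, one_zpow]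
  obtain ⟨χ, hχ, hχK⟩ := exists_conj_into_autS
    (fullyNormalized_props hTp (saturated hM) hn).2.1 hKp (Subgroup.zpowers_le.mpr hα)
  obtain ⟨s, hs, es⟩ := mem_autInducedBy.mp (hχK α (Subgroup.mem_zpowers α))
  set t : T := χ⁻¹ ⟨s, hs⟩
  refine ⟨(t : G), t.2, fun y hy => ?_⟩
  have h1 : ((χ * α * χ⁻¹) (χ ⟨y, hy⟩) : T) = ⟨s, hs⟩ * χ ⟨y, hy⟩ * ⟨s, hs⟩⁻¹ :=
    Subtype.ext (es _)
  have h2 : α ⟨y, hy⟩ = t * ⟨y, hy⟩ * t⁻¹ := by
    refine χ.injective ?_
    rw [map_mul, map_mul, map_inv, show χ t = ⟨s, hs⟩ from χ.apply_symm_apply _, ← h1]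
    show χ (α ⟨y, hy⟩) = χ (α (χ.symm (χ ⟨y, hy⟩)))
    rw [χ.symm_apply_apply]
  have h3 := e y hy
  rw [autFun_apply_mem _ hy, h2] at h3
  push_cast at h3
  show y * ((t : G)⁻¹ * g) = (t : G)⁻¹ * g * y
  calc y * ((t : G)⁻¹ * g) = (t : G)⁻¹ * ((t : G) * y * (t : G)⁻¹) * g := by group
    _ = (t : G)⁻¹ * (g * y * g⁻¹) * g := by rw [h3]
    _ = (t : G)⁻¹ * g * y := by group

/-- The elements of `mSub` centralizing `T` lie in the Sylow subgroup. -/
theorem m_inf_centralizer_le : mSub p E ⊓ Subgroup.centralizer (T : Set G) ≤ (S : Subgroup G) := by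
  set N := mSub p E ⊓ Subgroup.centralizer (T : Set G)
  have hNp : IsPGroup p N := Cfsg.Lib.Easy.isPGroup_of_coprime_trivial N fun x hx hcop =>
    eq_one_of_centralizes hM hx.1.1 hx.2 hcop
  have hn : (S : Subgroup G) ≤ Subgroup.normalizer (N : Set G) := fun s hs => by
    refine mem_normalizer_of_maps_finite fun x hx => ?_
    have hsn := S_le_normalizer hM hs
    have hc : s * x * s⁻¹ ∈ Subgroup.centralizer (T : Set G) := fun t ht => by
      have h1 : s⁻¹ * t * s ∈ T := by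
        simpa using conj_mem_of_mem_normalizer (Subgroup.inv_mem _ hsn) ht
      have h2 : (s⁻¹ * t * s) * x = x * (s⁻¹ * t * s) := hx.2 _ h1
      calc t * (s * x * s⁻¹) = s * ((s⁻¹ * t * s) * x) * s⁻¹ := by group
        _ = s * (x * (s⁻¹ * t * s)) * s⁻¹ := by rw [h2]
        _ = s * x * s⁻¹ * t := by group
    refine ⟨⟨⟨Subgroup.mul_mem _ (Subgroup.mul_mem _ hsn hx.1.1.1) (Subgroup.inv_mem _ hsn),
      fun y hy => ?_⟩, 1, Subgroup.one_mem _, fun t ht => ?_⟩, hc⟩
    · have h1 := hx.1.1.2 _ (conj_cq (Subgroup.inv_mem _ hsn) hy)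
      have := conj_mem_of_mem_normalizer hsn h1
      convert this using 1
      group
    · rw [autFun_one ht, ← Subgroup.mem_centralizer_iff.mp hc t ht, mul_inv_cancel_right]
  have hp' : IsPGroup p ((N ⊔ (S : Subgroup G) : Subgroup G)) :=
    hNp.to_sup_of_normal_left' S.isPGroup' hn
  exact le_sup_left.trans (S.is_maximal' hp' le_sup_right).le

/-- An element realizing an automorphism of `T` in `E`, with the extension property. -/
theorem exists_realizer {α : MulAut T} (hα : α ∈ E.autGroup T) :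
    ∃ g : G, (∀ t ∈ T, autFun α t = g * t * g⁻¹) ∧
      ∀ c ∈ centralizerIn (S : Subgroup G) T, g * c * g⁻¹ * c⁻¹ ∈ T := by
  obtain ⟨β, hβ, hβT, hβC⟩ := hM.normalIn.2 α hα
  have hXS : T ⊔ centralizerIn (S : Subgroup G) T ≤ (S : Subgroup G) :=
    sup_le (le_S hM) inf_le_left
  obtain ⟨-, -, g, hg⟩ := isMap_group_iff.mp ((isMap_autFun hXS).mpr hβ)
  refine ⟨g, fun t ht => ?_, fun c hc => ?_⟩
  · rw [← hg t (Subgroup.mem_sup_left ht), autFun_apply_mem _ ht,
      autFun_apply_mem _ (Subgroup.mem_sup_left ht)]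
    exact (hβT ⟨t, ht⟩).symm
  · have hcX : c ∈ T ⊔ centralizerIn (S : Subgroup G) T := Subgroup.mem_sup_right hc
    rw [← hg c hcX, autFun_apply_mem _ hcX]
    obtain ⟨hz, hzc⟩ := hβC ⟨c, hcX⟩ hc
    have h := (Subgroup.mem_centralizer_iff.mp hc.2 _ hz)
    have h2 : ((β ⟨c, hcX⟩ : ↥(T ⊔ centralizerIn (S : Subgroup G) T)) : G) * c⁻¹ =
        c⁻¹ * ((β ⟨c, hcX⟩ : ↥(T ⊔ centralizerIn (S : Subgroup G) T)) : G) := by
      calc _ = c * (c⁻¹ * ((β ⟨c, hcX⟩ : ↥(T ⊔ centralizerIn (S : Subgroup G) T)) : G)) * c⁻¹ := by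
            group
        _ = _ := by rw [← h, mul_inv_cancel_right]
    rw [h2]
    exact hz

/-- The `p'`-part of a realizer. -/
theorem exists_realizer' {α : MulAut T} (hα : α ∈ E.autGroup T) :
    ∃ t ∈ T, ∃ b ∈ mSub p E, (orderOf b).Coprime p ∧
      (∀ c ∈ centralizerIn (S : Subgroup G) T, b * c * b⁻¹ * c⁻¹ ∈ T) ∧
      ∀ y ∈ T, autFun α y = (t * b) * y * (t * b)⁻¹ := by
  obtain ⟨g, hg, hgC⟩ := exists_realizer hM hα
  set R : Subgroup G := {
    carrier := {x | x ∈ Subgroup.normalizer (T : Set G) ∧ ActE E T x ∧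
      ∀ c ∈ centralizerIn (S : Subgroup G) T, x * c * x⁻¹ * c⁻¹ ∈ T}
    one_mem' := ⟨Subgroup.one_mem _, ActE.one, fun c _ => by simp⟩
    mul_mem' := by
      rintro a b ⟨ha, ha1, ha2⟩ ⟨hb, hb1, hb2⟩
      refine ⟨Subgroup.mul_mem _ ha hb, ha1.mul hb1, fun c hc => ?_⟩
      -- `a` centralizes `T`-cosets inside `C_S(T)`
      have h1 := hb2 c hc
      have h2 := ha2 c hc
      have := T.mul_mem (conj_mem_of_mem_normalizer ha h1) h2
      convert this using 1
      group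
    inv_mem' := by
      rintro a ⟨ha, ha1, ha2⟩
      refine ⟨Subgroup.inv_mem _ ha, ha1.inv, fun c hc => ?_⟩
      have := conj_mem_of_mem_normalizer (Subgroup.inv_mem _ ha) (T.inv_mem (ha2 c hc))
      convert this using 1
      group }
  have hgR : g ∈ R := ⟨mem_normalizer_of_maps_finite fun y hy => hg y hy ▸ autFun_mem α hy,
    ⟨α, hα, hg⟩, hgC⟩
  obtain ⟨a, b, ha, hb, hab, ⟨k, hk⟩, hcop⟩ := Cfsg.Lib.Transfer.exists_pPart p g
  obtain ⟨-, haA, -⟩ := (Subgroup.zpowers_le.mpr hgR) ha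
  obtain ⟨hbn, hbA, hbC⟩ := (Subgroup.zpowers_le.mpr hgR) hb
  obtain ⟨t, ht, htc⟩ := exists_inner_action hM haA ⟨k, hk ▸ pow_orderOf_eq_one a⟩
  refine ⟨t, ht, b, ⟨⟨hbn, fun x hx => hbC x ⟨core_le_S hM hx.1, hx.2⟩⟩, hbA⟩, hcop, hbC,
    fun y hy => ?_⟩
  rw [hg y hy, ← hab]
  have hby : b * y * b⁻¹ ∈ T := conj_mem_of_mem_normalizer hbn hy
  have h := Subgroup.mem_centralizer_iff.mp htc _ hby
  calc a * b * y * (a * b)⁻¹ = t * ((t⁻¹ * a) * (b * y * b⁻¹) * (t⁻¹ * a)⁻¹) * t⁻¹ := by group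
    _ = t * (b * y * b⁻¹) * t⁻¹ := by rw [← h, mul_inv_cancel_right]
    _ = t * b * y * (t * b)⁻¹ := by group

/-- Every `p'`-element of `mSub` centralizes `C_S(T)` modulo `T`. -/
theorem coprime_centralizes {m : G} (hm : m ∈ mSub p E) (hcop : (orderOf m).Coprime p)
    {c : G} (hc : c ∈ centralizerIn (S : Subgroup G) T) : m * c * m⁻¹ * c⁻¹ ∈ T := by
  obtain ⟨α, hα, e⟩ := hm.2
  obtain ⟨t, ht, b, hb, hbcop, hbC, hbe⟩ := exists_realizer' hM hα
  set n := (t * b)⁻¹ * m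
  have hn : n ∈ mSub p E ⊓ Subgroup.centralizer (T : Set G) := by
    refine ⟨Subgroup.mul_mem _ (Subgroup.inv_mem _ (Subgroup.mul_mem _ (T_le_m hM ht) hb)) hm,
      fun y hy => ?_⟩
    have h1 := (hbe y hy).symm.trans (e y hy)
    calc y * ((t * b)⁻¹ * m) = (t * b)⁻¹ * (t * b * y * (t * b)⁻¹) * m := by group
      _ = (t * b)⁻¹ * (m * y * m⁻¹) * m := by rw [h1]
      _ = (t * b)⁻¹ * m * y := by group
  have hnS : n ∈ (S : Subgroup G) := m_inf_centralizer_le hM hn
  have hnC : n ∈ centralizerIn (S : Subgroup G) T := ⟨hnS, hn.2⟩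
  set N := Subgroup.normalizer (T : Set G)
  let π : N →* N ⧸ T.subgroupOf N := QuotientGroup.mk' _
  have hπ : ∀ x : N, π x = 1 ↔ (x : G) ∈ T := fun x => QuotientGroup.eq_one_iff x
  set b' : N := ⟨b, hb.1.1⟩
  set n' : N := ⟨n, hn.1.1.1⟩
  set m' : N := ⟨m, hm.1.1⟩
  set t' : N := ⟨t, Subgroup.le_normalizer ht⟩
  have hcomm : Commute (π b') (π n') := by
    rw [← commutatorElement_eq_one_iff_commute, ← map_commutatorElement, hπ]
    exact hbC n hnC
  have hmn : π m' = π b' * π n' := by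
    have h : m' = t' * b' * n' := Subtype.ext (show m = t * b * n by
      simp only [n, mul_inv_cancel_left])
    rw [h, map_mul, map_mul, (hπ t').mpr ht, one_mul]
  have hn1 : π n' = 1 := by
    obtain ⟨i, hi⟩ := S.isPGroup' ⟨n, hnS⟩
    have hi' : π n' ^ p ^ i = 1 := by
      rw [← map_pow, hπ, Subgroup.coe_pow]
      rw [show n ^ p ^ i = 1 by simpa using congrArg Subtype.val hi]
      exact T.one_mem
    have hj : π n' ^ (orderOf m * orderOf b) = 1 := by
      have h1 : π m' ^ (orderOf m * orderOf b) = 1 := by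
        rw [← map_pow, hπ, Subgroup.coe_pow, pow_mul, pow_orderOf_eq_one, one_pow]
        exact T.one_mem
      have h2 : π b' ^ (orderOf m * orderOf b) = 1 := by
        rw [← map_pow, hπ, Subgroup.coe_pow, mul_comm, pow_mul, pow_orderOf_eq_one, one_pow]
        exact T.one_mem
      rwa [hmn, hcomm.mul_pow, h2, one_mul] at h1
    exact orderOf_eq_one_iff.mp (Nat.eq_one_of_dvd_coprimes
      (((Nat.Coprime.mul_left hcop hbcop).symm).pow_left i)
      (orderOf_dvd_of_pow_eq_one hi') (orderOf_dvd_of_pow_eq_one hj))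
  have hnT : n ∈ T := (hπ n').mp hn1
  have hnc : n * c * n⁻¹ = c := by
    rw [← Subgroup.mem_centralizer_iff.mp hc.2 n hnT |>.symm |> fun h => h, mul_inv_cancel_right]
  have h1 : m * c * m⁻¹ * c⁻¹ = t * (b * c * b⁻¹ * c⁻¹) * (c * t⁻¹ * c⁻¹) := by
    calc m * c * m⁻¹ * c⁻¹ = (t * b) * (n * c * n⁻¹) * (t * b)⁻¹ * c⁻¹ := by simp [n]; group
      _ = (t * b) * c * (t * b)⁻¹ * c⁻¹ := by rw [hnc]
      _ = t * (b * c * b⁻¹ * c⁻¹) * (c * t⁻¹ * c⁻¹) := by group
  rw [h1]
  exact T.mul_mem (T.mul_mem ht (hbC c hc)) (conj_T_of_mem_S hM hc.1 (T.inv_mem ht))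

/-- Every `p`-element of `ySub` lies in `T`. -/
theorem y_pElement {y : G} (hy : y ∈ ySub p E) (hp : ∃ k : ℕ, y ^ p ^ k = 1) : y ∈ T := by
  set Y := ySub p E
  have hTY : T ≤ Y := le_sup_right
  haveI hN : (T.subgroupOf Y).Normal :=
    Subgroup.normal_subgroupOf_of_le_normalizer fun z hz => (y_le_m hM hz).1.1
  let π : Y →* Y ⧸ T.subgroupOf Y := QuotientGroup.mk' _
  have hπ : ∀ x : Y, π x = 1 ↔ (x : G) ∈ T := fun x => QuotientGroup.eq_one_iff x
  -- `p`-elements of the quotient come from `C_S(T)`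
  have hdec : ∀ z : Y, (∃ k : ℕ, (z : G) ^ p ^ k = 1) →
      ∃ n : Y, (n : G) ∈ centralizerIn (S : Subgroup G) T ∧ π n = π z := fun z hz => by
    obtain ⟨t, ht, htc⟩ := exists_inner_action hM (y_le_m hM z.2).2 hz
    refine ⟨⟨t⁻¹ * z, Y.mul_mem (Y.inv_mem (hTY ht)) z.2⟩, ⟨?_, htc⟩, ?_⟩
    · exact m_inf_centralizer_le hM
        ⟨Subgroup.mul_mem _ (Subgroup.inv_mem _ (T_le_m hM ht)) (y_le_m hM z.2), htc⟩
    · rw [show (⟨t⁻¹ * z, Y.mul_mem (Y.inv_mem (hTY ht)) z.2⟩ : Y) = ⟨t, hTY ht⟩⁻¹ * z from rfl,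
        map_mul, map_inv, (hπ ⟨t, hTY ht⟩).mpr ht, inv_one, one_mul]
  -- these are central
  have hcen : ∀ n : Y, (n : G) ∈ centralizerIn (S : Subgroup G) T →
      π n ∈ Subgroup.center (Y ⧸ T.subgroupOf Y) := by
    intro n hn
    have hle : Y ≤ ((Subgroup.centralizer ({π n} : Set (Y ⧸ T.subgroupOf Y))).comap π).map
        Y.subtype := by
      refine sup_le ((Subgroup.closure_le _).mpr fun m hm => ?_) fun t ht => ?_
      · have hmY : m ∈ Y := Subgroup.mem_sup_left (Subgroup.subset_closure hm)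
        refine ⟨⟨m, hmY⟩, ?_, rfl⟩
        show π ⟨m, hmY⟩ ∈ Subgroup.centralizer {π n}
        rw [Subgroup.mem_centralizer_singleton_iff]
        refine commutatorElement_eq_one_iff_mul_comm.mp ?_
        rw [← map_commutatorElement, hπ]
        exact coprime_centralizes hM hm.1 hm.2 hn
      · refine ⟨⟨t, hTY ht⟩, ?_, rfl⟩
        show π ⟨t, hTY ht⟩ ∈ Subgroup.centralizer {π n}
        rw [(hπ ⟨t, hTY ht⟩).mpr ht]
        exact Subgroup.one_mem _
    refine Subgroup.mem_center_iff.mpr fun q => ?_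
    obtain ⟨z, rfl⟩ := QuotientGroup.mk'_surjective (T.subgroupOf Y) q
    obtain ⟨z', hz', e⟩ := hle z.2
    obtain rfl : z' = z := Subtype.ext e
    exact Subgroup.mem_centralizer_singleton_iff.mp hz'
  obtain ⟨P, hP⟩ : ∃ P : Sylow p (Y ⧸ T.subgroupOf Y),
      π ⟨y, hy⟩ ∈ (P : Subgroup (Y ⧸ T.subgroupOf Y)) := by
    obtain ⟨k, hk⟩ := hp
    have h1 : IsPGroup p (Subgroup.zpowers (π ⟨y, hy⟩)) := fun w => by
      obtain ⟨i, hi⟩ := w.2
      refine ⟨k, Subtype.ext ?_⟩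
      rw [Subgroup.coe_pow, ← hi]
      show (π ⟨y, hy⟩ ^ i) ^ p ^ k = 1
      rw [← zpow_natCast, ← zpow_mul, mul_comm, zpow_mul, zpow_natCast, ← map_pow,
        show (⟨y, hy⟩ : Y) ^ p ^ k = 1 from Subtype.ext (by simpa using hk), map_one, one_zpow]
    obtain ⟨P, hP⟩ := h1.exists_le_sylow
    exact ⟨P, hP (Subgroup.mem_zpowers _)⟩
  have hPc : (P : Subgroup (Y ⧸ T.subgroupOf Y)) ≤ Subgroup.center _ := by
    intro w hw
    obtain ⟨z, rfl⟩ := QuotientGroup.mk'_surjective (T.subgroupOf Y) w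
    obtain ⟨k, hk⟩ := P.2 ⟨_, hw⟩
    have hk' : π z ^ p ^ k = 1 := by
      show ((⟨_, hw⟩ : (P : Subgroup (Y ⧸ T.subgroupOf Y))) : Y ⧸ T.subgroupOf Y) ^ p ^ k = 1
      rw [← Subgroup.coe_pow, hk]; rfl
    rw [← map_pow, hπ, Subgroup.coe_pow] at hk'
    obtain ⟨j, hj⟩ := pGroupT hM ⟨_, hk'⟩
    have hzp : (z : G) ^ p ^ (k + j) = 1 := by
      rw [pow_add, pow_mul]; simpa using congrArg Subtype.val hj
    obtain ⟨n, hn, hne⟩ := hdec z ⟨_, hzp⟩
    show π z ∈ _
    rw [← hne]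
    exact hcen n hn
  have hN' : Subgroup.normalizer ((P : Subgroup (Y ⧸ T.subgroupOf Y)) : Set (Y ⧸ T.subgroupOf Y)) ≤
      Subgroup.centralizer ((P : Subgroup (Y ⧸ T.subgroupOf Y)) : Set (Y ⧸ T.subgroupOf Y)) := by
    intro q _
    rw [Subgroup.mem_centralizer_iff]
    intro w hw
    exact (Subgroup.mem_center_iff.mp (hPc hw) q).symm
  have hdis := MonoidHom.ker_transferSylow_disjoint P hN' (P : Subgroup (Y ⧸ T.subgroupOf Y)) P.2
  -- the kernel contains all generators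
  have hker : ∀ z : Y, π z ∈ (MonoidHom.transferSylow P hN').ker := by
    have hcop : ∀ w : Y ⧸ T.subgroupOf Y, (orderOf w).Coprime p →
        w ∈ (MonoidHom.transferSylow P hN').ker := fun w hw => by
      obtain ⟨k, hk⟩ := P.2 (MonoidHom.transferSylow P hN' w)
      have h1 := (orderOf_map_dvd (MonoidHom.transferSylow P hN') w)
      exact MonoidHom.mem_ker.mpr (orderOf_eq_one_iff.mp (Nat.eq_one_of_dvd_coprimes
        (Nat.Coprime.pow_left k (Nat.coprime_comm.mp hw)) (orderOf_dvd_of_pow_eq_one hk) h1))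
    have hle : Y ≤ ((MonoidHom.transferSylow P hN').ker.comap π).map Y.subtype := by
      refine sup_le ((Subgroup.closure_le _).mpr fun m hm => ?_) fun t ht => ?_
      · refine ⟨⟨m, Subgroup.mem_sup_left (Subgroup.subset_closure hm)⟩, hcop _ ?_, rfl⟩
        refine Nat.Coprime.coprime_dvd_left (orderOf_map_dvd π _) ?_
        rw [← Subgroup.orderOf_coe]
        exact hm.2
      · refine ⟨⟨t, hTY ht⟩, ?_, rfl⟩
        show π ⟨t, hTY ht⟩ ∈ (MonoidHom.transferSylow P hN').ker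
        rw [(hπ ⟨t, hTY ht⟩).mpr ht]
        exact Subgroup.one_mem _
    intro z
    obtain ⟨z', hz', e⟩ := hle z.2
    obtain rfl : z' = z := Subtype.ext e
    exact hz'
  exact (hπ ⟨y, hy⟩).mp (Subgroup.disjoint_def.mp hdis (hker _) hP)

/-- The subgroup carrying `E`. -/
def hSub (_h : Setup S E) : Subgroup G := h1Sub _h ⊔ ySub p E

theorem T_le_h : T ≤ hSub hM := (T_le_h1 hM).trans le_sup_left

/-- Every element is a product of one of the normal closure and one normalizing `T`. -/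
theorem frattini_arg {g : G} : ∃ h ∈ h1Sub hM, h * g ∈ Subgroup.normalizer (T : Set G) := by
  haveI : (h1Sub hM).Normal := Subgroup.normalClosure_normal
  have hmax : IsMaxPIn p T (h1Sub hM) := by
    have := isMaxPIn_inf_normal S (h1Sub hM)
    rwa [h1_inf_S hM] at this
  obtain ⟨h, hh, hU⟩ := hmax.exists_conj_le (U := T.map (MulAut.conj g).toMonoidHom)
    (map_conj_le fun t ht => (inferInstance : (h1Sub hM).Normal).conj_mem t (T_le_h1 hM ht) g)
    ((pGroupT hM).map _)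
  refine ⟨h, hh, mem_normalizer_of_maps_finite fun t ht => ?_⟩
  have := hU (g * t * g⁻¹) ⟨t, ht, rfl⟩
  convert this using 1
  group

theorem h_normal : (hSub hM).Normal := by
  haveI : (h1Sub hM).Normal := Subgroup.normalClosure_normal
  have hN : ∀ g ∈ Subgroup.normalizer (T : Set G), ∀ y ∈ ySub p E, g * y * g⁻¹ ∈ ySub p E := by
    intro g hg
    suffices ySub p E ≤ (ySub p E).comap (MulAut.conj g).toMonoidHom from fun y hy => this hy
    refine sup_le ((Subgroup.closure_le _).mpr fun m hm => ?_) fun t ht =>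
      Subgroup.mem_sup_right (conj_mem_of_mem_normalizer hg ht)
    refine Subgroup.mem_sup_left (Subgroup.subset_closure ⟨⟨⟨Subgroup.mul_mem _
      (Subgroup.mul_mem _ hg hm.1.1.1) (Subgroup.inv_mem _ hg), fun x hx => ?_⟩, ?_⟩, ?_⟩)
    · have h1 := hm.1.1.2 _ (conj_cq (Subgroup.inv_mem _ hg) hx)
      have := conj_mem_of_mem_normalizer hg h1
      show g * m * g⁻¹ * x * (g * m * g⁻¹)⁻¹ * x⁻¹ ∈ T
      convert this using 1
      group
    · obtain ⟨α, hα, e⟩ := hm.1.2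
      have hgm : IsMap (groupFusionSystem (S : Subgroup G)) T (fun x => g * x * g⁻¹) :=
        isMap_group_iff.mpr ⟨le_S hM, fun x hx => le_S hM (conj_mem_of_mem_normalizer hg hx), g,
          fun _ _ => rfl⟩
      obtain ⟨γ, hγ, eγ⟩ := hgm.exists_aut (img_eq_of_apply hgm le_rfl fun x hx =>
        conj_mem_of_mem_normalizer hg hx)
      have h := CharSub.transT (inv hM) ((isMap_autFun le_rfl).mpr hα) hγ
      rw [img_autFun] at h
      refine ⟨_, (isMap_autFun le_rfl).mp (h.congr (f' := autFun (γ * α * γ⁻¹)) fun x hx => by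
        rw [autFun_mul _ _ hx, autFun_mul _ _ (autFun_mem _ hx)]), fun x hx => ?_⟩
      rw [autFun_mul _ _ hx, autFun_mul _ _ (autFun_mem _ hx)]
      have hy : autFun γ⁻¹ x = g⁻¹ * x * g := by
        have := eγ _ (autFun_mem γ⁻¹ hx)
        rw [autFun_inv_apply γ hx] at this
        calc autFun γ⁻¹ x = g⁻¹ * (g * autFun γ⁻¹ x * g⁻¹) * g := by group
          _ = g⁻¹ * x * g := by rw [← this]
      rw [eγ _ (autFun_mem α (autFun_mem _ hx)), e _ (autFun_mem _ hx), hy]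
      show g * (m * (g⁻¹ * x * g) * m⁻¹) * g⁻¹ = g * m * g⁻¹ * x * (g * m * g⁻¹)⁻¹
      group
    · show (orderOf (MulAut.conj g m)).Coprime p
      rw [MulEquiv.orderOf_eq]
      exact hm.2
  refine ⟨fun n hn g => ?_⟩
  obtain ⟨h, hh, hgn⟩ := frattini_arg hM (g := g)
  obtain ⟨a, ha, y, hy, rfl⟩ := Subgroup.mem_sup_of_normal_left.mp hn
  have h1 : g * a * g⁻¹ ∈ hSub hM :=
    Subgroup.mem_sup_left ((inferInstance : (h1Sub hM).Normal).conj_mem a ha g)
  have h2 : g * y * g⁻¹ ∈ hSub hM := by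
    have h3 : (h * g) * y * (h * g)⁻¹ ∈ hSub hM := Subgroup.mem_sup_right (hN _ hgn y hy)
    have h4 : h ∈ hSub hM := Subgroup.mem_sup_left hh
    have := (hSub hM).mul_mem ((hSub hM).mul_mem ((hSub hM).inv_mem h4) h3) h4
    convert this using 1
    group
  rw [show g * (a * y) * g⁻¹ = (g * a * g⁻¹) * (g * y * g⁻¹) by group]
  exact (hSub hM).mul_mem h1 h2

/-- The `p`-elements of `hSub` lie in the normal closure. -/
theorem h_pElement {x : G} (hx : x ∈ hSub hM) (hp : ∃ k : ℕ, x ^ p ^ k = 1) : x ∈ h1Sub hM := by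
  haveI : (h1Sub hM).Normal := Subgroup.normalClosure_normal
  obtain ⟨h, hh, y, hy, rfl⟩ := Subgroup.mem_sup_of_normal_left.mp hx
  obtain ⟨k, hk⟩ := hp
  obtain ⟨a, b, ha, hb, hab, ⟨i, hi⟩, hcop⟩ := Cfsg.Lib.Transfer.exists_pPart p y
  let π := QuotientGroup.mk' (h1Sub hM)
  have hπh : π h = 1 := (QuotientGroup.eq_one_iff h).mpr hh
  have hy1 : π y ^ p ^ k = 1 := by
    have := congrArg π hk
    rwa [map_pow, map_mul, hπh, one_mul, map_one] at this
  have hb1 : π b = 1 := by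
    obtain ⟨n, rfl⟩ := Subgroup.mem_zpowers_iff.mp hb
    refine orderOf_eq_one_iff.mp (Nat.eq_one_of_dvd_coprimes (Nat.Coprime.pow_left k
      (Nat.coprime_comm.mp hcop)) (orderOf_dvd_of_pow_eq_one ?_) (orderOf_map_dvd π _))
    rw [map_zpow, ← zpow_natCast, ← zpow_mul, mul_comm, zpow_mul, zpow_natCast, hy1, one_zpow]
  have haT : a ∈ T := y_pElement hM ((Subgroup.zpowers_le.mpr hy) ha) ⟨i, hi ▸ pow_orderOf_eq_one a⟩
  refine Subgroup.mul_mem _ hh ?_
  rw [← hab]
  exact Subgroup.mul_mem _ (T_le_h1 hM haT) ((QuotientGroup.eq_one_iff b).mp hb1)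

theorem h_max : IsMaxPIn p T (hSub hM) := by
  haveI : (h1Sub hM).Normal := Subgroup.normalClosure_normal
  have hmax : IsMaxPIn p T (h1Sub hM) := by
    have := isMaxPIn_inf_normal S (h1Sub hM)
    rwa [h1_inf_S hM] at this
  refine ⟨T_le_h hM, pGroupT hM, fun U hU hUp hle => hmax.2.2 U (fun u hu => ?_) hUp hle⟩
  obtain ⟨k, hk⟩ := hUp ⟨u, hu⟩
  exact h_pElement hM (hU hu) ⟨k, by simpa using congrArg Subtype.val hk⟩

/-- The subgroup meets `C(D)` in a subgroup of `T`. -/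
theorem h_inf_centralizer : hSub hM ⊓ Subgroup.centralizer (dSub p T : Set G) ≤ T := by
  haveI : (h1Sub hM).Normal := Subgroup.normalClosure_normal
  haveI := h_normal hM
  haveI := normal_D hM
  set C := Subgroup.centralizer (dSub p T : Set G)
  have hp : IsPGroup p (hSub hM ⊓ C : Subgroup G) :=
    Cfsg.Lib.Easy.isPGroup_of_coprime_trivial _ fun x hx hcop => by
      have hxn : x ∈ Subgroup.normalizer (T : Set G) :=
        mem_normalizer_of_maps_finite fun t ht => centralizer_D_conj hM hx.2 ht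
      have hxT : x ∈ Subgroup.centralizer (T : Set G) := fun t ht => by
        refine (Cfsg.Lib.Components.centralize_of_commutator_fixed (pGroupT hM) hcop hxn ht ?_).symm
        rw [commutatorElement_def,
          ← Subgroup.mem_centralizer_iff.mp hx.2 _ (commutator_mem hM hx.2 ht).1,
          mul_inv_cancel_right]
      obtain ⟨h, hh, y, hy, e⟩ := Subgroup.mem_sup_of_normal_left.mp hx.1
      have hhn : h ∈ Subgroup.normalizer (T : Set G) := by
        have := Subgroup.mul_mem _ hxn (Subgroup.inv_mem _ (y_le_m hM hy).1.1)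
        rwa [← e, mul_inv_cancel_right] at this
      exact eq_one_of_centralizes hM
        (e ▸ Subgroup.mul_mem _ (h1_mem_ncSub hM hh hhn) (y_le_m hM hy).1) hxT hcop
  have hsup : IsPGroup p ((hSub hM ⊓ C) ⊔ T : Subgroup G) :=
    hp.to_sup_of_normal_left' (pGroupT hM)
      (fun t _ => mem_normalizer_of_maps_finite fun z hz =>
        (inferInstance : (hSub hM ⊓ C).Normal).conj_mem z hz t)
  exact le_sup_left.trans ((h_max hM).2.2 _ (sup_le inf_le_left (T_le_h hM)) hsup le_sup_right).le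

/-- The maps of `E` are induced by the subgroup. -/
theorem isMap_h_of_E {P : Subgroup G} {f : G → G} (hf : IsMap E P f) :
    IsMap (fusionSystemOfSubgroup (hSub hM) T (T_le_h hM)) P f := by
  have hTp := pGroupT hM
  set FH := fusionSystemOfSubgroup (hSub hM) T (T_le_h hM)
  refine alperin_radical hTp (saturated hM) (isMapClass_isMap E FH) (fun g hg => ?_)
    (fun Q hQT hQn hQc hQr hIH α hα => ?_) hf
  · obtain ⟨α, hα, e⟩ := hg.exists_aut (Subgroup.eq_of_le_of_card_ge hg.img_le hg.card_img.ge)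
    obtain ⟨t, ht, b, hb, hbcop, -, he⟩ := exists_realizer' hM hα
    exact isMap_subgroup_iff.mpr ⟨le_rfl, fun x hx => hg.mem_S hx, t * b,
      Subgroup.mul_mem _ (T_le_h hM ht) (Subgroup.mem_sup_right
        (Subgroup.mem_sup_left (Subgroup.subset_closure ⟨hb, hbcop⟩))),
      fun x hx => (e x hx).symm.trans (he x hx)⟩
  obtain ⟨-, hfa, hrec⟩ := fullyNormalized_props hTp (saturated hM) hQn
  have hQ := hQn.1
  have hcls := isMapClass_isMap E FH
  obtain ⟨R, hR⟩ := hfa.2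
  set N : Subgroup (E.autGroup Q) := (PrimeIndex.opGen E p Q).subgroupOf (E.autGroup Q)
  haveI hN : N.Normal := ⟨fun x hx g => by
    have hle : PrimeIndex.opGen E p Q ≤ (PrimeIndex.opGen E p Q).comap
        (MulAut.conj (g : MulAut Q)).toMonoidHom :=
      PrimeIndex.opGen_le_iff fun β hβ hk => by
        refine Subgroup.mem_comap.mpr (PrimeIndex.mem_opGen ?_ ?_)
        · exact Subgroup.mul_mem _ (Subgroup.mul_mem _ g.2 hβ) (Subgroup.inv_mem _ g.2)
        · rwa [orderOf_injective _ (MulAut.conj (g : MulAut Q)).injective]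
    exact hle hx⟩
  have hgood : PrimeIndex.opGen E p Q ≤ goodAut E (IsMap FH) hcls Q hQ := by
    refine PrimeIndex.opGen_le_iff fun u hu hk => ⟨hu, ?_⟩
    obtain ⟨k, hk⟩ := hk
    obtain ⟨χ, hχ, hχK⟩ := exists_conj_into_autS hfa
      (IsPGroup.of_card (by rw [Nat.card_zpowers, hk]) : IsPGroup p (Subgroup.zpowers u))
      (Subgroup.zpowers_le.mpr hu)
    obtain ⟨t, ht, et⟩ := mem_autInducedBy.mp (hχK u (Subgroup.mem_zpowers u))
    obtain ⟨-, -, g, hg⟩ := isMap_group_iff.mp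
      (CharSub.isMap_of_sub (inv hM).1 ((isMap_autFun hQ).mpr hχ))
    have hum := (isMap_autFun hQ).mpr hu
    refine isMap_subgroup_iff.mpr ⟨hQ, fun x hx => hum.mem_S hx, g⁻¹ * t * g, ?_, fun x hx => ?_⟩
    · have := (Subgroup.normalClosure_normal : (h1Sub hM).Normal).conj_mem t (T_le_h1 hM ht) g⁻¹
      exact Subgroup.mem_sup_left (by simpa [h1Sub, mul_assoc] using this)
    · have h1 := et ⟨autFun χ x, autFun_mem χ hx⟩
      rw [← autFun_apply (χ * u * χ⁻¹) ⟨_, autFun_mem χ hx⟩] at h1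
      rw [← autFun_mul _ χ hx, inv_mul_cancel_right, autFun_mul _ _ hx,
        hg _ (autFun_mem u hx)] at h1
      change g * autFun u x * g⁻¹ = t * autFun χ x * t⁻¹ at h1
      rw [hg x hx] at h1
      calc autFun u x = g⁻¹ * (g * autFun u x * g⁻¹) * g := by group
        _ = g⁻¹ * t * g * x * (g⁻¹ * t * g)⁻¹ := by rw [h1]; group
  have hRN : (R : Subgroup (E.autGroup Q)) ≤ N := fun x hx => by
    obtain ⟨k, hk⟩ := IsPGroup.iff_orderOf.mp R.2 ⟨x, hx⟩
    exact PrimeIndex.mem_opGen x.2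
      ⟨k, (Subgroup.orderOf_coe x).trans ((Subgroup.orderOf_mk x hx).symm.trans hk)⟩
  have hmem : (⟨α, hα⟩ : E.autGroup Q) ∈
      Subgroup.normalizer ((R : Subgroup (E.autGroup Q)) : Set (E.autGroup Q)) ⊔ N := by
    have h0 : Subgroup.normalizer ((R : Subgroup (E.autGroup Q)) : Set (E.autGroup Q)) ⊔ N = ⊤ :=
      Sylow.normalizer_sup_eq_top' R hRN
    rw [h0]; exact Subgroup.mem_top _
  obtain ⟨γ, hγ, ν, hν, e⟩ := Subgroup.mem_sup_of_normal_right.mp hmem
  obtain ⟨β, hβ, hβI⟩ := exists_noninner hTp hQT (hQc.2 Q (isConj_refl hQ))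
  have hγc : (γ : MulAut Q) * β * (γ : MulAut Q)⁻¹ ∈ autInducedBy T Q := by
    have hb : (⟨β, autInducedBy_le hQ hβ⟩ : E.autGroup Q) ∈ (R : Subgroup (E.autGroup Q)) := by
      rw [hR]; exact hβ
    have h := (Subgroup.mem_normalizer_iff.mp hγ _).mp hb
    rw [hR] at h
    exact h
  have := Subgroup.mul_mem _ (good_of_conj (p := p) hcls hQ hrec hIH γ.2 hβ hβI hγc) (hgood (show (ν : MulAut Q) ∈ PrimeIndex.opGen E p Q from hν))
  rw [← Subgroup.coe_mul, e] at this
  exact this.2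

/-- The maps induced by the subgroup are maps of `E`. -/
theorem isMap_E_of_h {P : Subgroup G} {f : G → G}
    (hf : IsMap (fusionSystemOfSubgroup (hSub hM) T (T_le_h hM)) P f) : IsMap E P f := by
  haveI := h_normal hM
  haveI := normal_D hM
  obtain ⟨hP, hfT, h, hh, e⟩ := isMap_subgroup_iff.mp hf
  set D := dSub p T
  have hy : ySub p E ≤ lSub hM := fun y hy => by
    obtain ⟨hyn, α, hα, eα⟩ := y_le_m hM hy
    have hst : ∀ x ∈ D, autFun α x ∈ D := fun x hx => by
      rw [eα x hx.2]; exact conj_D hM y hx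
    have hm : IsMap E D (autFun α) := ((isMap_autFun le_rfl).mpr hα).mono inf_le_right
    obtain ⟨γ, hγ, eγ⟩ := hm.exists_aut (img_eq_of_apply hm le_rfl hst)
    exact ⟨γ, hγ, fun x hx => (eγ x hx).trans (eα x hx.2)⟩
  obtain ⟨γ, hγ, eγ⟩ := sup_le (h1_le_lSub hM) hy hh
  have hγm : IsMap E D (autFun γ) := (isMap_autFun inf_le_right).mpr hγ
  obtain ⟨-, -, hrec⟩ := fullyNormalized_props (pGroupT hM) (saturated hM) (fullyNormalized_D hM)
  obtain ⟨k, hk, hkγ⟩ := receptive_extend hrec hγm (img_autFun γ)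
  have hPext : P ≤ extSub T D (autFun γ) := fun x hx => mem_extSub.mpr
    ⟨hP hx, mem_normalizer_of_maps_finite fun y hy => conj_D hM x hy, h * x * h⁻¹,
      e x hx ▸ hfT x hx, fun y hy => by
        rw [eγ y hy, eγ _ (conj_D hM x hy)]; group⟩
  obtain ⟨-, -, h', hh', e'⟩ := isMap_subgroup_iff.mp (isMap_h_of_E hM hk)
  have hDext : D ≤ extSub T D (autFun γ) := le_extSub hγm
  set z := h'⁻¹ * h
  have hzC : z ∈ hSub hM ⊓ Subgroup.centralizer (D : Set G) := by
    refine ⟨Subgroup.mul_mem _ (Subgroup.inv_mem _ hh') hh, fun y hy => ?_⟩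
    have h1 := (e' y (hDext hy)).symm.trans ((hkγ y hy).trans (eγ y hy))
    calc y * (h'⁻¹ * h) = h'⁻¹ * (h' * y * h'⁻¹) * h := by group
      _ = h'⁻¹ * (h * y * h⁻¹) * h := by rw [h1]
      _ = h'⁻¹ * h * y := by group
  have hzT : z ∈ T := h_inf_centralizer hM hzC
  have hzn : z ∈ extSub T D (autFun γ) :=
    centralizerIn_le_extSub D _ ⟨hzT, hzC.2⟩
  have hmem : ∀ x ∈ P, z * x * z⁻¹ ∈ extSub T D (autFun γ) := fun x hx =>
    Subgroup.mul_mem _ (Subgroup.mul_mem _ hzn (hPext hx)) (Subgroup.inv_mem _ hzn)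
  refine ((isMap_conj hP hzT).comp hk hmem).congr fun x hx => ?_
  show f x = k (z * x * z⁻¹)
  rw [e' _ (hmem x hx), e x hx]
  simp only [z]
  group

/-- The existence and uniqueness of the subgroup. -/
theorem exists_unique_subgroup :
    ∃ H : Subgroup G, (∃ hTH : T ≤ H, H.Normal ∧ (∃ R : Sylow p H, (R : Subgroup H) = T.subgroupOf H) ∧
        ∀ P : Subgroup G, E.Hom P = (fusionSystemOfSubgroup H T hTH).Hom P) ∧
      ∀ H' : Subgroup G, (∃ hTH' : T ≤ H', H'.Normal ∧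
        (∃ R : Sylow p H', (R : Subgroup H') = T.subgroupOf H') ∧
        ∀ P : Subgroup G, E.Hom P = (fusionSystemOfSubgroup H' T hTH').Hom P) → H' = H := by
  refine ⟨hSub hM, ⟨T_le_h hM, h_normal hM, (sylow_subgroupOf_iff (T_le_h hM) (pGroupT hM)).mpr
    (h_max hM), fun P => hom_eq_iff_isMap.mpr fun f => ⟨isMap_h_of_E hM, isMap_E_of_h hM⟩⟩, ?_⟩
  rintro H' ⟨hTH', hn, hR, heq⟩
  haveI := hn
  have hmax := (sylow_subgroupOf_iff hTH' (pGroupT hM)).mp hR
  have h1 : h1Sub hM ≤ H' := Subgroup.normalClosure_le_normal hTH'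
  have hmapH : ∀ {P : Subgroup G} {f : G → G},
      IsMap E P f ↔ IsMap (fusionSystemOfSubgroup H' T hTH') P f :=
    hom_eq_iff_isMap.mp (heq _) _
  have hQH : ∀ x ∈ pCore p G, x ∈ H' → x ∈ T := fun x hx hxH => by
    have hp : IsPGroup p (pCore p G ⊓ H' : Subgroup G) :=
      (Cfsg.Lib.Components.isPGroup_pCore p).to_le inf_le_left
    haveI := Cfsg.Lib.Components.pCore_normal' (G := G) p
    have hsup : IsPGroup p ((pCore p G ⊓ H') ⊔ T : Subgroup G) :=
      hp.to_sup_of_normal_left' (pGroupT hM) fun t _ => mem_normalizer_of_maps_finite fun z hz =>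
        (inferInstance : (pCore p G ⊓ H').Normal).conj_mem z hz t
    exact (hmax.2.2 _ (sup_le inf_le_right hTH') hsup le_sup_right).le
      (Subgroup.mem_sup_left ⟨hx, hxH⟩)
  have hle : H' ≤ hSub hM := fun g hg => by
    obtain ⟨h, hh, hgn⟩ := frattini_arg hM (g := g)
    have hmH : h * g ∈ H' := H'.mul_mem (h1 hh) hg
    suffices h * g ∈ hSub hM by
      have h2 := (hSub hM).mul_mem ((hSub hM).inv_mem (Subgroup.mem_sup_left hh)) this
      rwa [inv_mul_cancel_left] at h2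
    set m := h * g
    obtain ⟨a, b, ha, hb, hab, ⟨i, hi⟩, hcop⟩ := Cfsg.Lib.Transfer.exists_pPart p m
    have haH : a ∈ H' := (Subgroup.zpowers_le.mpr hmH) ha
    have han : a ∈ Subgroup.normalizer (T : Set G) := (Subgroup.zpowers_le.mpr hgn) ha
    have hbH : b ∈ H' := (Subgroup.zpowers_le.mpr hmH) hb
    have hbn : b ∈ Subgroup.normalizer (T : Set G) := (Subgroup.zpowers_le.mpr hgn) hb
    have haT : a ∈ T := by
      have hp : IsPGroup p (T ⊔ Subgroup.zpowers a : Subgroup G) :=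
        (pGroupT hM).to_sup_of_normal_left'
          (IsPGroup.of_card (by rw [Nat.card_zpowers, hi]))
          (Subgroup.zpowers_le.mpr han)
      exact (hmax.2.2 _ (sup_le hTH' (Subgroup.zpowers_le.mpr haH)) hp le_sup_left).le
        (Subgroup.mem_sup_right (Subgroup.mem_zpowers a))
    have hbM : b ∈ mSub p E := by
      refine ⟨⟨hbn, fun x hx => hQH _ ?_ ?_⟩, ?_⟩
      · exact Subgroup.mul_mem _ (conj_Q hM b hx.1) (Subgroup.inv_mem _ hx.1)
      · rw [show b * x * b⁻¹ * x⁻¹ = b * (x * b⁻¹ * x⁻¹) by group]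
        exact H'.mul_mem hbH (hn.conj_mem _ (H'.inv_mem hbH) x)
      · have hbm : IsMap E T (fun x => b * x * b⁻¹) := hmapH.mpr (isMap_subgroup_iff.mpr
          ⟨le_rfl, fun x hx => conj_mem_of_mem_normalizer hbn hx, b, hbH, fun _ _ => rfl⟩)
        exact hbm.exists_aut (Subgroup.eq_of_le_of_card_ge hbm.img_le hbm.card_img.ge)
    rw [← hab]
    exact Subgroup.mul_mem _ (T_le_h hM haT)
      (Subgroup.mem_sup_right (Subgroup.mem_sup_left (Subgroup.subset_closure ⟨hbM, hcop⟩)))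
  refine le_antisymm hle (sup_le h1 (sup_le ((Subgroup.closure_le _).mpr fun m hm => ?_) hTH'))
  obtain ⟨α, hα, eα⟩ := hm.1.2
  obtain ⟨-, -, h, hh, e⟩ := isMap_subgroup_iff.mp (hmapH.mp ((isMap_autFun le_rfl).mpr hα))
  have hz : h⁻¹ * m ∈ hSub hM ⊓ Subgroup.centralizer (dSub p T : Set G) := by
    refine ⟨Subgroup.mul_mem _ (Subgroup.inv_mem _ (hle hh))
      (Subgroup.mem_sup_right (Subgroup.mem_sup_left (Subgroup.subset_closure hm))), fun y hy => ?_⟩
    have h2 := (e y hy.2).symm.trans (eα y hy.2)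
    calc y * (h⁻¹ * m) = h⁻¹ * (h * y * h⁻¹) * m := by group
      _ = h⁻¹ * (m * y * m⁻¹) * m := by rw [h2]
      _ = h⁻¹ * m * y := by group
  have := H'.mul_mem hh (hTH' (h_inf_centralizer hM hz))
  rwa [mul_inv_cancel_left] at this

end Cfsg.Lib.Fusion.ModelSub
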